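import Cfsg.Agent.LargeEx.Basic
import Cfsg.Agent.MinNormal.Factors

set_option autoImplicit false

/-! Tools for the normal closure of the centre of a large extraspecial 2-subgroup. -/

namespace CfsgLib.LargeEx.Struct

variable {G : Type*} [Group G]

/-- The conjugate `g T g⁻¹`. -/
def cj (g : G) (T : Subgroup G) : Subgroup G := T.map (MulAut.conj g).toMonoidHom

theorem mem_cj {g x : G} {T : Subgroup G} : x ∈ cj g T ↔ g⁻¹ * x * g ∈ T := by
  constructor
  · rintro ⟨t, ht, rfl⟩
    simpa [MulAut.conj_apply, mul_assoc] using ht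
  · intro h
    exact ⟨_, h, by simp [MulAut.conj_apply, mul_assoc]⟩

theorem conj_mem_cj {g x : G} {T : Subgroup G} (hx : x ∈ T) : g * x * g⁻¹ ∈ cj g T := by
  simpa [mem_cj, mul_assoc] using hx

theorem cj_cj (g h : G) (T : Subgroup G) : cj g (cj h T) = cj (g * h) T := by
  ext x
  simp [mem_cj, mul_assoc]

theorem cj_one (T : Subgroup G) : cj 1 T = T := by
  ext x
  simp [mem_cj]

theorem mem_normalizer_of_cj_eq {g : G} {T : Subgroup G} (h : cj g T = T) :
    g ∈ Subgroup.normalizer (T : Set G) :=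
  Subgroup.mem_normalizer_iff_map_conj_eq.2 h

/-- A 2-group fixes a non-trivial element of a subgroup of even order that it normalizes. -/
theorem exists_fixed_of_invariant [Finite G] {P K : Subgroup G} (hP : IsPGroup 2 P)
    (hPK : P ≤ Subgroup.normalizer (K : Set G)) (he : Even (Nat.card K)) :
    ∃ n ∈ K, n ≠ 1 ∧ ∀ x ∈ P, x * n = n * x := by
  haveI : Fact (Nat.Prime 2) := ⟨Nat.prime_two⟩
  letI : MulAction P K :=
    MulAction.compHom K ((Subgroup.normalizerMonoidHom K).comp (Subgroup.inclusion hPK))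
  have h1 : (1 : K) ∈ MulAction.fixedPoints P K := fun x =>
    map_one (Subgroup.normalizerMonoidHom K (Subgroup.inclusion hPK x))
  obtain ⟨n, hn, hne⟩ := hP.exists_fixed_point_of_prime_dvd_card_of_fixed_point (α := K)
    (even_iff_two_dvd.1 he) h1
  refine ⟨n, n.2, fun h => hne (Subtype.ext h.symm), fun x hx => ?_⟩
  have h2 : x * (n : G) * x⁻¹ = (n : G) := congrArg Subtype.val (hn ⟨x, hx⟩)
  calc x * (n : G) = x * (n : G) * x⁻¹ * x := by group
    _ = (n : G) * x := by rw [h2]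

theorem even_card_of_isPGroup [Finite G] {P : Subgroup G} (hP : IsPGroup 2 P) (h : P ≠ ⊥) :
    Even (Nat.card P) := by
  haveI : Fact (Nat.Prime 2) := ⟨Nat.prime_two⟩
  haveI : Nontrivial P := (Subgroup.nontrivial_iff_ne_bot _).2 h
  obtain ⟨n, hn0, hn⟩ := hP.nontrivial_iff_card.1 ‹_›
  rw [hn, Nat.even_pow]
  exact ⟨even_two, hn0.ne'⟩

/-- A non-trivial subgroup normalized by a large extraspecial subgroup contains its central involution. -/
theorem mem_of_invariant [Finite G] {Q : Subgroup G} {z : G} (e : ExtraData Q z)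
    (hQ : Cfsg.IsLargeExtraspecial Q) {K : Subgroup G}
    (hQK : Q ≤ Subgroup.normalizer (K : Set G)) (hK : K ≠ ⊥) : z ∈ K := by
  have hev : Even (Nat.card K) := by
    rcases Nat.even_or_odd (Nat.card K) with h | h
    · exact h
    · exact absurd (hQ.2.2.2 K h hQK) hK
  obtain ⟨n, hnK, hn1, hn⟩ := exists_fixed_of_invariant e.isPGroup hQK hev
  have hnC : n ∈ Subgroup.centralizer (Q : Set G) := Subgroup.mem_centralizer_iff.2 hn
  rw [hQ.2.1] at hnC
  rcases e.mem_center_iff.1 hnC with h | h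
  · exact absurd h hn1
  · exact h ▸ hnK

theorem mem_of_normal [Finite G] {Q : Subgroup G} {z : G} (e : ExtraData Q z)
    (hQ : Cfsg.IsLargeExtraspecial Q) (K : Subgroup G) [K.Normal] (hK : K ≠ ⊥) : z ∈ K :=
  mem_of_invariant e hQ (by rw [Subgroup.normalizer_eq_top]; exact le_top) hK

/-- A Sylow 2-subgroup of `L` containing `P ⊓ L` and normalized by the 2-group `P`. -/
theorem exists_invariant_sylow [Finite G] {L P : Subgroup G} (hP : IsPGroup 2 P)
    (hPL : P ≤ Subgroup.normalizer (L : Set G)) :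
    ∃ S : Sylow 2 L, (∀ x ∈ L, x ∈ P → ∃ hx : x ∈ L, (⟨x, hx⟩ : L) ∈ (S : Subgroup L)) ∧
      P ≤ Subgroup.normalizer (((S : Subgroup L).map L.subtype : Subgroup G) : Set G) := by
  haveI : Fact (Nat.Prime 2) := ⟨Nat.prime_two⟩
  set X := L ⊔ P with hX
  have hXN : X ≤ Subgroup.normalizer (L : Set G) := sup_le Subgroup.le_normalizer hPL
  obtain ⟨T, hT⟩ := IsPGroup.exists_le_sylow
    (hP.of_equiv (Subgroup.subgroupOfEquivOfLe (le_sup_right : P ≤ X)).symm)
  obtain ⟨S, hS⟩ : ∃ S, S = ((T : Subgroup X).map X.subtype) ⊓ L := ⟨_, rfl⟩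
  have hPT : ∀ x ∈ P, x ∈ (T : Subgroup X).map X.subtype := fun x hx =>
    ⟨⟨x, (le_sup_right : P ≤ X) hx⟩, hT hx, rfl⟩
  have hSp : IsPGroup 2 S := (T.2.map X.subtype).to_le (hS ▸ inf_le_left)
  have hSL : S ≤ L := hS ▸ inf_le_right
  have hPS : P ≤ Subgroup.normalizer (S : Set G) := by
    refine CfsgLib.MinNormal.le_normalizer_of_conj fun p hp k hk => ?_
    rw [hS] at hk ⊢
    exact ⟨((T : Subgroup X).map X.subtype).mul_mem (Subgroup.mul_mem _ (hPT p hp) hk.1)
      (Subgroup.inv_mem _ (hPT p hp)),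
      (Subgroup.mem_normalizer_iff.1 (hPL hp) k).1 hk.2⟩
  obtain ⟨S', hS'⟩ := IsPGroup.exists_le_sylow
    (hSp.of_equiv (Subgroup.subgroupOfEquivOfLe hSL).symm)
  -- compare with a Sylow subgroup of `L` inside a conjugate of `T`
  have hcard : Nat.card (S' : Subgroup L) ≤ Nat.card (S.subgroupOf L) := by
    set S1 := (S' : Subgroup L).map L.subtype with hS1
    have hS1X : S1 ≤ X := (Subgroup.map_subtype_le _).trans le_sup_left
    obtain ⟨T1, hT1⟩ := IsPGroup.exists_le_sylow
      ((S'.2.map L.subtype).of_equiv (Subgroup.subgroupOfEquivOfLe hS1X).symm)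
    obtain ⟨g, hg⟩ := MulAction.exists_smul_eq X T1 T
    have hle : S1.map (MulAut.conj (g : G)).toMonoidHom ≤ S := by
      rintro _ ⟨s, hs, rfl⟩
      rw [hS]
      refine ⟨⟨g * ⟨s, hS1X hs⟩ * g⁻¹, ?_, rfl⟩,
        (Subgroup.mem_normalizer_iff.1 (hXN g.2) s).1 (Subgroup.map_subtype_le _ hs)⟩
      rw [← hg]
      exact ⟨⟨s, hS1X hs⟩, hT1 hs, rfl⟩
    have h1 := Subgroup.card_le_of_le hle
    rw [Subgroup.card_map_of_injective (MulAut.conj (g : G)).injective, hS1,
      Subgroup.card_map_of_injective L.subtype_injective] at h1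
    rwa [Nat.card_congr (Subgroup.subgroupOfEquivOfLe hSL).toEquiv]
  have heq : S.subgroupOf L = S' := Subgroup.eq_of_le_of_card_ge hS' hcard
  have hmap : (S' : Subgroup L).map L.subtype = S := by
    rw [← heq, Subgroup.map_subgroupOf_eq_of_le hSL]
  refine ⟨S', fun x hxL hxP => ⟨hxL, ?_⟩, hmap.symm ▸ hPS⟩
  rw [← heq, Subgroup.mem_subgroupOf, hS]
  exact ⟨hPT x hxP, hxL⟩

theorem commute_iSup {ι : Type*} (K : ι → Subgroup G) {z : G} (hz : ∀ i, ∀ y ∈ K i, y * z = z * y)
    {y : G} (hy : y ∈ ⨆ i, K i) : y * z = z * y := by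
  have h : (⨆ i, K i) ≤ Subgroup.centralizer ({z} : Set G) :=
    iSup_le fun i w hw => Subgroup.mem_centralizer_singleton_iff.2 (hz i w hw)
  exact Subgroup.mem_centralizer_singleton_iff.1 (h hy)

/-- When the centralizer of the minimal normal subgroup `M` is trivial, `M` is generated by the
`Q`-conjugates of a non-abelian simple subgroup, any two of whose conjugates are equal or commute. -/
theorem exists_orbit_factor [Finite G] {Q : Subgroup G} {z : G} (e : ExtraData Q z)
    (hQ : Cfsg.IsLargeExtraspecial Q) (M : Subgroup G) [M.Normal] (hzM : z ∈ M)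
    (hmin : ∀ N : Subgroup G, N.Normal → N ≤ M → N = ⊥ ∨ N = M)
    (hCM : Subgroup.centralizer (M : Set G) = ⊥) :
    ∃ L : Subgroup G, L ≤ M ∧ IsSimpleGroup L ∧
      (∀ g h : G, cj g L ≠ cj h L → ∀ x ∈ cj g L, ∀ y ∈ cj h L, x * y = y * x) ∧
      (∀ x ∈ L, (∀ y ∈ L, x * y = y * x) → x = 1) ∧
      M = ⨆ q : Q, cj (q : G) L := by
  have hM : M ≠ ⊥ := fun h => e.ne_one (Subgroup.mem_bot.1 (h ▸ hzM))
  obtain ⟨m, K, hm, hKM, hKN, hKs, -, -, -, hsup⟩ :=
    CfsgLib.MinNormal.exists_factors M hM hmin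
  set P : Subgroup G → Prop := fun T =>
    T ≤ M ∧ M ≤ Subgroup.normalizer (T : Set G) ∧ IsSimpleGroup T with hP
  have hPK : ∀ i, P (K i) := fun i => ⟨hKM i, hKN i, hKs i⟩
  have hPc : ∀ g T, P T → P (cj g T) := by
    rintro g T ⟨h1, h2, h3⟩
    refine ⟨fun x hx => ?_, CfsgLib.MinNormal.le_normalizer_of_conj fun n hn k hk => ?_, ?_⟩
    · rw [mem_cj] at hx
      simpa [mul_assoc] using ‹M.Normal›.conj_mem _ (h1 hx) g
    · rw [mem_cj] at hk ⊢
      have hn' : g⁻¹ * n * g ∈ M := by simpa using ‹M.Normal›.conj_mem n hn g⁻¹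
      have := (Subgroup.mem_normalizer_iff.1 (h2 hn') _).1 hk
      simpa [mul_assoc] using this
    · exact (T.equivMapOfInjective _ (MulAut.conj g).injective).isSimpleGroup_congr.mp h3
  have hdist : ∀ A B, P A → P B → A ≠ B → ∀ x ∈ A, ∀ y ∈ B, x * y = y * x := by
    rintro A B ⟨hA1, hA2, hA3⟩ ⟨hB1, hB2, hB3⟩ hne x hx y hy
    have key : ∀ C D : Subgroup G, C ≤ M → M ≤ Subgroup.normalizer (C : Set G) →
        M ≤ Subgroup.normalizer (D : Set G) → IsSimpleGroup C → C ⊓ D = ⊥ ∨ C ≤ D := by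
      intro C D hC1 hC2 hD2 hC3
      have hn : ((C ⊓ D).subgroupOf C).Normal := by
        rw [Subgroup.normal_subgroupOf_iff inf_le_left]
        intro d c hd hc
        exact ⟨C.mul_mem (C.mul_mem hc hd.1) (C.inv_mem hc),
          (Subgroup.mem_normalizer_iff.1 (hD2 (hC1 hc)) d).1 hd.2⟩
      rcases hn.eq_bot_or_eq_top with h | h
      · left
        exact disjoint_self.1 ((Subgroup.subgroupOf_eq_bot.1 h).mono le_rfl inf_le_left)
      · right
        exact (Subgroup.subgroupOf_eq_top.1 h).trans inf_le_right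
    have hbot : A ⊓ B = ⊥ := by
      rcases key A B hA1 hA2 hB2 hA3 with h | h
      · exact h
      · rcases key B A hB1 hB2 hA2 hB3 with h' | h'
        · rwa [inf_comm]
        · exact absurd (le_antisymm h h') hne
    have hc : x * y * x⁻¹ * y⁻¹ ∈ A ⊓ B := by
      refine ⟨?_, B.mul_mem ((Subgroup.mem_normalizer_iff.1 (hB2 (hA1 hx)) y).1 hy) (B.inv_mem hy)⟩
      have := A.mul_mem hx
        ((Subgroup.mem_normalizer_iff.1 (hA2 (hB1 hy)) x⁻¹).1 (inv_mem hx))
      simpa [mul_assoc] using this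
    rw [hbot, Subgroup.mem_bot] at hc
    calc x * y = (x * y * x⁻¹ * y⁻¹) * (y * x) := by group
      _ = y * x := by rw [hc, one_mul]
  -- an element of `M` commuting with all factors is trivial
  have htriv : ∀ x : G, (∀ i, ∀ y ∈ K i, y * x = x * y) → x = 1 := by
    intro x hx
    rw [← Subgroup.mem_bot, ← hCM, Subgroup.mem_centralizer_iff]
    intro y hy
    rw [← hsup] at hy
    exact commute_iSup K hx hy
  set L := K ⟨0, hm⟩ with hL
  have horbz : ∀ T, P T → z ∈ ⨆ q : Q, cj (q : G) T := by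
    intro T hT
    refine mem_of_invariant e hQ (CfsgLib.MinNormal.le_normalizer_of_conj fun p hp k hk => ?_) ?_
    · have hle : cj p (⨆ q : Q, cj (q : G) T) ≤ ⨆ q : Q, cj (q : G) T := by
        rw [cj, Subgroup.map_iSup]
        refine iSup_le fun q => ?_
        show cj p (cj (q : G) T) ≤ _
        rw [cj_cj]
        exact le_iSup (fun q : Q => cj (q : G) T) (⟨p, hp⟩ * q)
      exact hle (conj_mem_cj hk)
    · intro h
      haveI := hT.2.2
      have : Nontrivial T := inferInstance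
      refine (Subgroup.nontrivial_iff_ne_bot T).1 this (le_bot_iff.1 (h ▸ ?_))
      exact le_trans (le_of_eq (cj_one T).symm) (le_iSup (fun q : Q => cj (q : G) T) 1)
  have hall : ∀ i, ∃ q : Q, cj (q : G) L = K i := by
    by_contra hex
    push Not at hex
    obtain ⟨i, hi⟩ := hex
    apply e.ne_one
    apply htriv
    intro j y hy
    by_cases hj : ∃ q : Q, cj (q : G) L = K j
    · obtain ⟨q, hq⟩ := hj
      have hzB := horbz (K i) (hPK i)
      refine (commute_iSup _ (fun p w hw => ?_) hzB).symm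
      refine (hdist _ _ (hPc (p : G) _ (hPK i)) (hPK j) ?_ w hw y hy)
      intro h
      apply hi (p⁻¹ * q)
      rw [Subgroup.coe_mul, ← cj_cj, hq, ← h, cj_cj, InvMemClass.coe_inv, inv_mul_cancel, cj_one]
    · push Not at hj
      refine (commute_iSup _ (fun p w hw => ?_) (horbz L (hPK _))).symm
      exact hdist _ _ (hPc (p : G) _ (hPK _)) (hPK j) (hj p) w hw y hy
  have hMsup : M = ⨆ q : Q, cj (q : G) L := by
    refine le_antisymm ?_ (iSup_le fun q => (hPc _ _ (hPK _)).1)
    rw [← hsup]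
    refine iSup_le fun i => ?_
    obtain ⟨q, hq⟩ := hall i
    rw [← hq]
    exact le_iSup (fun q : Q => cj (q : G) L) q
  refine ⟨L, hKM _, hKs _, fun g h hne => hdist _ _ (hPc g _ (hPK _)) (hPc h _ (hPK _)) hne,
    fun x hx hxc => ?_, hMsup⟩
  apply htriv
  intro i y hy
  by_cases hi : K i = L
  · exact (hxc y (hi ▸ hy)).symm
  · exact hdist _ _ (hPK i) (hPK _) hi y hy x hx

end CfsgLib.LargeEx.Struct
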