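import Mathlib
import Cfsg.Prelude.Def_MonsterType

set_option autoImplicit false

/-! Basic facts about extraspecial 2-subgroups and the criteria for largeness. -/

open scoped commutatorElement

namespace CfsgLib.LargeEx

variable {G : Type*} [Group G]

theorem pCore_normal (p : ℕ) : (Cfsg.pCore p G).Normal :=
  Subgroup.sSup_normal _ fun _ h => h.1

theorem isPGroup_pCore (p : ℕ) [Finite G] : IsPGroup p (Cfsg.pCore p G) := by
  classical
  obtain ⟨N, hN, hmax⟩ :=
    (Set.toFinite {N : Subgroup G | N.Normal ∧ IsPGroup p N}).exists_maximal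
      ⟨⊥, inferInstance, IsPGroup.of_bot⟩
  have : N.Normal := hN.1
  have hle : Cfsg.pCore p G ≤ N := by
    refine sSup_le fun M hM => ?_
    have : M.Normal := hM.1
    exact le_sup_left.trans
      (hmax ⟨Subgroup.sup_normal M N, hM.2.to_sup_of_normal_right hN.2⟩ le_sup_right)
  exact hN.2.to_le hle

/-- In a finite group, an element of odd order subgroup with square one is trivial. -/
theorem eq_one_of_sq_eq_one {K : Subgroup G} [Finite G] (hK : Odd (Nat.card K)) {k : G}
    (hk : k ∈ K) (h : k * k = 1) : k = 1 := by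
  have h1 : orderOf k ∣ 2 := orderOf_dvd_of_pow_eq_one (by rw [pow_two, h])
  have h2 : orderOf k ∣ Nat.card K := Subgroup.orderOf_dvd_natCard K hk
  rcases (Nat.dvd_prime Nat.prime_two).1 h1 with h3 | h3
  · exact orderOf_eq_one_iff.1 h3
  · rw [h3] at h2
    exact absurd (even_iff_two_dvd.2 h2) (Nat.not_even_iff_odd.2 hK)

/-- An element of 2-power order in an odd order subgroup is trivial. -/
theorem eq_one_of_isPGroup_two {K P : Subgroup G} [Finite G] (hK : Odd (Nat.card K))
    (hP : IsPGroup 2 P) {k : G} (hk : k ∈ K) (hkP : k ∈ P) : k = 1 := by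
  obtain ⟨n, hn⟩ := (hP.exists_card_eq : ∃ n, Nat.card P = 2 ^ n)
  have hc : Nat.Coprime (Nat.card K) (Nat.card P) := by
    rw [hn]; exact Nat.Coprime.pow_right n (Nat.coprime_two_right.2 hK)
  have h := (Subgroup.disjoint_of_coprime_natCard hc).eq_bot
  have : k ∈ K ⊓ P := ⟨hk, hkP⟩
  rw [h] at this
  exact Subgroup.mem_bot.1 this

/-- The data extracted from `IsExtraspecial 2 Q`: the centre is `{1, z}` and commutators lie in it. -/
structure ExtraData (Q : Subgroup G) (z : G) : Prop where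
  mem : z ∈ Q
  ne_one : z ≠ 1
  sq : z * z = 1
  comm : ∀ x ∈ Q, z * x = x * z
  central : ∀ c ∈ Q, (∀ x ∈ Q, c * x = x * c) → c = 1 ∨ c = z
  bracket : ∀ x ∈ Q, ∀ y ∈ Q, x * y = y * x ∨ x * y = y * x * z
  center_eq : (Subgroup.center ↥Q).map Q.subtype = Subgroup.zpowers z
  nonabelian : ∃ x ∈ Q, ∃ y ∈ Q, x * y ≠ y * x
  isPGroup : IsPGroup 2 Q

theorem exists_extraData {Q : Subgroup G} (hQ : Cfsg.IsExtraspecial 2 ↥Q) :
    ∃ z, ExtraData Q z := by
  obtain ⟨⟨hp, -, hcomm⟩, hcard⟩ := hQ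
  obtain ⟨⟨⟨z, hzQ⟩, hzc⟩, hz1, huniq⟩ :=
    (Nat.card_eq_two_iff' (1 : Subgroup.center ↥Q)).1 hcard
  have hz1' : z ≠ 1 := fun h => hz1 (by subst h; rfl)
  have hzcomm : ∀ x ∈ Q, z * x = x * z := fun x hx =>
    (congrArg Subtype.val (Subgroup.mem_center_iff.1 hzc ⟨x, hx⟩)).symm
  have hcent : ∀ c : Q, c ∈ Subgroup.center ↥Q → (c : G) = 1 ∨ (c : G) = z := by
    intro c hc
    by_cases h : (⟨c, hc⟩ : Subgroup.center ↥Q) = 1
    · exact Or.inl (congrArg (fun t : Subgroup.center ↥Q => ((t : Q) : G)) h)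
    · exact Or.inr (congrArg (fun t : Subgroup.center ↥Q => ((t : Q) : G)) (huniq ⟨c, hc⟩ h))
  have hsq : z * z = 1 := by
    rcases hcent (⟨z, hzQ⟩ * ⟨z, hzQ⟩) (mul_mem hzc hzc) with h | h
    · exact h
    · exact absurd (mul_eq_left.1 h) hz1'
  refine ⟨z, hzQ, hz1', hsq, hzcomm, ?_, ?_, ?_, ?_, hp⟩
  · intro c hc h
    exact hcent ⟨c, hc⟩ (Subgroup.mem_center_iff.2 fun x => Subtype.ext (h x x.2).symm)
  · intro x hx y hy
    have hm : ⁅(⟨x⁻¹, inv_mem hx⟩ : Q), (⟨y⁻¹, inv_mem hy⟩ : Q)⁆ ∈ Subgroup.center ↥Q := by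
      rw [← hcomm]
      exact Subgroup.commutator_mem_commutator (Subgroup.mem_top _) (Subgroup.mem_top _)
    have hval : ((⁅(⟨x⁻¹, inv_mem hx⟩ : Q), (⟨y⁻¹, inv_mem hy⟩ : Q)⁆ : Q) : G)
        = x⁻¹ * y⁻¹ * x * y := by simp [commutatorElement_def]
    rcases hcent _ hm with h | h <;> rw [hval] at h
    · refine Or.inl ?_
      calc x * y = y * x * (x⁻¹ * y⁻¹ * x * y) := by group
        _ = y * x := by rw [h, mul_one]
    · refine Or.inr ?_
      calc x * y = y * x * (x⁻¹ * y⁻¹ * x * y) := by group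
        _ = y * x * z := by rw [h]
  · apply le_antisymm
    · rintro _ ⟨c, hc, rfl⟩
      rcases hcent c hc with h | h <;> simp [h]
    · rw [Subgroup.zpowers_le]
      exact ⟨⟨z, hzQ⟩, hzc, rfl⟩
  · by_contra h
    push Not at h
    have hb : commutator ↥Q = ⊥ := by
      rw [commutator_def, Subgroup.commutator_eq_bot_iff_le_centralizer]
      intro a _
      exact Subgroup.mem_centralizer_iff.2 fun b _ => Subtype.ext (h b b.2 a a.2)
    rw [hb] at hcomm
    have : (⟨z, hzQ⟩ : Q) ∈ (⊥ : Subgroup Q) := hcomm ▸ hzc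
    exact hz1' (congrArg Subtype.val (Subgroup.mem_bot.1 this))

theorem ExtraData.mem_center_iff {Q : Subgroup G} {z : G} (e : ExtraData Q z) {x : G} :
    x ∈ (Subgroup.center ↥Q).map Q.subtype ↔ x = 1 ∨ x = z := by
  constructor
  · rintro ⟨c, hc, rfl⟩
    exact e.central _ c.2 fun y hy =>
      (congrArg Subtype.val (Subgroup.mem_center_iff.1 hc ⟨y, hy⟩)).symm
  · rintro (rfl | rfl)
    · exact one_mem _
    · rw [e.center_eq]; exact Subgroup.mem_zpowers _

theorem ExtraData.inv_eq {Q : Subgroup G} {z : G} (e : ExtraData Q z) : z⁻¹ = z :=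
  inv_eq_of_mul_eq_one_right e.sq

theorem ExtraData.orderOf_eq {Q : Subgroup G} {z : G} (e : ExtraData Q z) : orderOf z = 2 :=
  orderOf_eq_prime (by rw [pow_two, e.sq]) e.ne_one

/-- Squares of an extraspecial 2-group are central. -/
theorem ExtraData.sq_mem {Q : Subgroup G} {z : G} (e : ExtraData Q z) {x : G} (hx : x ∈ Q) :
    x * x = 1 ∨ x * x = z := by
  refine e.central _ (mul_mem hx hx) fun y hy => ?_
  rcases e.bracket x hx y hy with h | h
  · rw [mul_assoc, h, ← mul_assoc, h, mul_assoc]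
  · calc x * x * y = x * (x * y) := mul_assoc _ _ _
      _ = x * (y * x * z) := by rw [h]
      _ = (x * y) * (x * z) := by group
      _ = (y * x * z) * (x * z) := by rw [h]
      _ = y * x * (z * x) * z := by group
      _ = y * x * (x * z) * z := by rw [e.comm x hx]
      _ = y * (x * x) * (z * z) := by group
      _ = y * (x * x) := by rw [e.sq, mul_one]

/-- A non-central element of `Q` is conjugate in `Q` to its product with `z`. -/
theorem ExtraData.exists_conj_mul {Q : Subgroup G} {z : G} (e : ExtraData Q z) {b : G}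
    (hb : b ∈ Q) (hb1 : b ≠ 1) (hbz : b ≠ z) : ∃ q ∈ Q, q * b * q⁻¹ = b * z := by
  have hex : ∃ q ∈ Q, b * q ≠ q * b := by
    by_contra h
    push Not at h
    rcases e.central b hb h with h' | h'
    · exact hb1 h'
    · exact hbz h'
  obtain ⟨q, hq, hne⟩ := hex
  refine ⟨q, hq, ?_⟩
  rcases e.bracket q hq b hb with h | h
  · exact absurd h.symm hne
  · rw [h]
    calc b * q * z * q⁻¹ = b * (q * z) * q⁻¹ := by group
      _ = b * (z * q) * q⁻¹ := by rw [e.comm q hq]
      _ = b * z := by group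

theorem eq_of_bracket_mem {K Q : Subgroup G} {k q : G} (hk : k ∈ K) (hq : q ∈ Q)
    (hqK : q ∈ Subgroup.normalizer (K : Set G)) (hkQ : k ∈ Subgroup.normalizer (Q : Set G))
    (hint : ∀ x ∈ K, x ∈ Q → x = 1) : k * q = q * k := by
  have h1 : k * q * k⁻¹ * q⁻¹ ∈ K := by
    have hc := (Subgroup.mem_normalizer_iff.1 hqK k⁻¹).1 (inv_mem hk)
    have h2 := mul_mem hk hc
    simpa [mul_assoc] using h2
  have h2 : k * q * k⁻¹ * q⁻¹ ∈ Q :=
    mul_mem ((Subgroup.mem_normalizer_iff.1 hkQ q).1 hq) (inv_mem hq)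
  have h3 := hint _ h1 h2
  calc k * q = (k * q * k⁻¹ * q⁻¹) * (q * k) := by group
    _ = q * k := by rw [h3, one_mul]

/-- A 2-subgroup fixes a non-trivial element of a normal subgroup of even order. -/
theorem exists_fixed_of_even [Finite G] {P N : Subgroup G} [hN : N.Normal] (hP : IsPGroup 2 P)
    (he : Even (Nat.card N)) : ∃ n ∈ N, n ≠ 1 ∧ ∀ x ∈ P, x * n = n * x := by
  haveI : Fact (Nat.Prime 2) := ⟨Nat.prime_two⟩
  letI : MulAction P N := MulAction.compHom N ((MulAut.conjNormal (H := N)).comp P.subtype)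
  have h1 : (1 : N) ∈ MulAction.fixedPoints P N := fun x =>
    map_one (MulAut.conjNormal (H := N) (x : G))
  obtain ⟨n, hn, hne⟩ := hP.exists_fixed_point_of_prime_dvd_card_of_fixed_point (α := N)
    (even_iff_two_dvd.1 he) h1
  refine ⟨n, n.2, fun h => hne (Subtype.ext h.symm), fun x hx => ?_⟩
  have h2 : x * (n : G) * x⁻¹ = (n : G) := by
    have := congrArg Subtype.val (hn ⟨x, hx⟩)
    exact this
  calc x * (n : G) = x * (n : G) * x⁻¹ * x := by group
    _ = (n : G) * x := by rw [h2]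

section Criteria

variable [Finite G] {Q : Subgroup G} {z : G} (e : ExtraData Q z)
  (hL2 : Subgroup.centralizer (Q : Set G) = ((Subgroup.center ↥Q).map Q.subtype))
  (hL3 : Subgroup.centralizer (((Subgroup.center ↥Q).map Q.subtype) : Set G) ≤
    Subgroup.normalizer (Q : Set G))

include e hL2 hL3

/-- A `Q`-invariant odd order subgroup meets `C(z)` trivially. -/
theorem inf_centralizer_eq_one {K : Subgroup G} (hK : Odd (Nat.card K))
    (hQK : Q ≤ Subgroup.normalizer (K : Set G)) {k : G} (hk : k ∈ K) (hkz : k * z = z * k) :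
    k = 1 := by
  have hkN : k ∈ Subgroup.normalizer (Q : Set G) := hL3 <| Subgroup.mem_centralizer_iff.2 <| by
    intro c hc
    rcases e.mem_center_iff.1 hc with rfl | rfl
    · simp
    · exact hkz.symm
  have hkC : k ∈ Subgroup.centralizer (Q : Set G) := Subgroup.mem_centralizer_iff.2 fun q hq =>
    (eq_of_bracket_mem hk hq (hQK hq) hkN
      (fun x hx hxQ => eq_one_of_isPGroup_two hK e.isPGroup hx hxQ)).symm
  rw [hL2] at hkC
  rcases e.mem_center_iff.1 hkC with h | h
  · exact h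
  · exact eq_one_of_isPGroup_two hK e.isPGroup hk (h ▸ e.mem)

/-- If the centre lies in the 2-core of `C(b)` for an involution `b ∈ Q` outside the centre, every
`Q`-invariant odd order subgroup is trivial. -/
theorem odd_invariant_eq_bot {b : G} (hbQ : b ∈ Q) (hb1 : b ≠ 1) (hbz : b ≠ z) (hb2 : b * b = 1)
    (hzO : z ∈ (Cfsg.pCore 2 ↥(Subgroup.centralizer ({b} : Set G))).map
      (Subgroup.centralizer ({b} : Set G)).subtype)
    {K : Subgroup G} (hK : Odd (Nat.card K)) (hQK : Q ≤ Subgroup.normalizer (K : Set G)) :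
    K = ⊥ := by
  -- b acts without fixed points on K
  have hfix : ∀ k ∈ K, k * b = b * k → k = 1 := by
    intro k hk hkb
    apply inf_centralizer_eq_one e hL2 hL3 hK hQK hk
    obtain ⟨⟨z', hz'C⟩, hz'O, hz'eq⟩ := hzO
    simp only [Subgroup.subtype_apply] at hz'eq
    subst hz'eq
    have hkC : k ∈ Subgroup.centralizer ({b} : Set G) :=
      Subgroup.mem_centralizer_singleton_iff.2 hkb
    have hn := (pCore_normal (G := ↥(Subgroup.centralizer ({b} : Set G))) 2)
    have h1 : k * z' * k⁻¹ * z'⁻¹ ∈ K := by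
      have hc := (Subgroup.mem_normalizer_iff.1 (hQK e.mem) k⁻¹).1 (inv_mem hk)
      simpa [mul_assoc] using mul_mem hk hc
    have h2 : k * z' * k⁻¹ * z'⁻¹ ∈ (Cfsg.pCore 2 ↥(Subgroup.centralizer ({b} : Set G))).map
        (Subgroup.centralizer ({b} : Set G)).subtype :=
      ⟨(⟨k, hkC⟩ * ⟨z', hz'C⟩ * ⟨k, hkC⟩⁻¹) * ⟨z', hz'C⟩⁻¹,
        mul_mem (hn.conj_mem _ hz'O _) (inv_mem hz'O), rfl⟩
    have h3 := eq_one_of_isPGroup_two hK ((isPGroup_pCore 2).map _) h1 h2
    calc k * z' = (k * z' * k⁻¹ * z'⁻¹) * (z' * k) := by group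
      _ = z' * k := by rw [h3, one_mul]
  -- hence b inverts K
  have hbK : ∀ k ∈ K, b * k * b ∈ K := by
    intro k hk
    have := (Subgroup.mem_normalizer_iff.1 (hQK hbQ) k).1 hk
    rwa [inv_eq_of_mul_eq_one_right hb2] at this
  have hinv : ∀ k ∈ K, b * k * b = k⁻¹ := by
    have hinj : Function.Injective (fun k : K => (⟨(k : G)⁻¹ * (b * k * b),
        mul_mem (inv_mem k.2) (hbK k k.2)⟩ : K)) := by
      intro k l h
      have h' : (k : G)⁻¹ * (b * k * b) = (l : G)⁻¹ * (b * l * b) := congrArg Subtype.val h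
      have hm : (l : G) * (k : G)⁻¹ ∈ K := mul_mem l.2 (inv_mem k.2)
      have hc : ((l : G) * (k : G)⁻¹) * b = b * ((l : G) * (k : G)⁻¹) := by
        have h2 : (l : G) * (k : G)⁻¹ = b * l * b * (b * k * b)⁻¹ := by
          calc (l : G) * (k : G)⁻¹ = l * ((k : G)⁻¹ * (b * k * b)) * (b * k * b)⁻¹ := by group
            _ = l * ((l : G)⁻¹ * (b * l * b)) * (b * k * b)⁻¹ := by rw [h']
            _ = _ := by group
        calc ((l : G) * (k : G)⁻¹) * b = b * l * b * (b * k * b)⁻¹ * b := by rw [h2]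
          _ = b * ((l : G) * (k : G)⁻¹) * (b⁻¹ * b) := by group
          _ = b * ((l : G) * (k : G)⁻¹) := by simp
      have := hfix _ hm hc
      exact Subtype.ext (mul_inv_eq_one.1 this).symm
    intro k hk
    obtain ⟨m, hm⟩ := Finite.injective_iff_surjective.1 hinj ⟨k, hk⟩
    have hm' : (m : G)⁻¹ * (b * m * b) = k := congrArg Subtype.val hm
    rw [← hm']
    calc b * ((m : G)⁻¹ * (b * m * b)) * b
        = b * (m : G)⁻¹ * b * (m : G) * (b * b) := by group
      _ = b⁻¹ * (m : G)⁻¹ * b⁻¹ * (m : G) := by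
          rw [hb2, mul_one, inv_eq_of_mul_eq_one_right hb2]
      _ = ((m : G)⁻¹ * (b * m * b))⁻¹ := by group
  -- so does b * z, hence z centralizes K
  obtain ⟨q, hq, hqb⟩ := e.exists_conj_mul hbQ hb1 hbz
  rw [Subgroup.eq_bot_iff_forall]
  intro k hk
  apply inf_centralizer_eq_one e hL2 hL3 hK hQK hk
  have hq' : q⁻¹ * k * q ∈ K := (Subgroup.mem_normalizer_iff''.1 (hQK hq) k).1 hk
  have h1 : (b * z) * k * (b * z) = k⁻¹ := by
    calc (b * z) * k * (b * z) = (q * b * q⁻¹) * k * (q * b * q⁻¹) := by rw [hqb]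
      _ = q * (b * (q⁻¹ * k * q) * b) * q⁻¹ := by group
      _ = k⁻¹ := by rw [hinv _ hq']; group
  have hzK : z * k * z ∈ K := by
    have := (Subgroup.mem_normalizer_iff.1 (hQK e.mem) k).1 hk
    rwa [e.inv_eq] at this
  have hzb : z * b = b * z := e.comm b hbQ
  have h2 : (b * z) * k * (b * z) = (z * k * z)⁻¹ := by
    calc (b * z) * k * (b * z) = (b * z) * k * (z * b) := by rw [hzb]
      _ = b * (z * k * z) * b := by group
      _ = _ := hinv _ hzK
  have h4 : z * k * z = k := inv_injective (h2.symm.trans h1)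
  calc k * z = (z * k * z) * z := by rw [h4]
    _ = z * k * (z * z) := by group
    _ = z * k := by rw [e.sq, mul_one]

end Criteria

end CfsgLib.LargeEx
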